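import Cfsg.Agent.Lib.Helper36.ChevW0a

set_option autoImplicit false
set_option maxRecDepth 100000

namespace Cfsg.Agent.Lib.Helper36

open Cfsg Cfsg.Lie

/-- a reduced word of the longest element -/
def g2w0 : List ℕ := [0, 1, 0, 1, 0, 1]

theorem g2_w0chk0 : w0chk chevG2 g2wts g2w0 0 12 = true := by decide +kernel

theorem g2_w0 (s : ℕ) (hs : s < chevG2.nroots) :
    (chevG2.IsPosRoot s → chevG2.IsNegRoot (fP g2wts g2w0 s)) ∧
      (chevG2.IsNegRoot s → chevG2.IsPosRoot (gP g2wts g2w0 s)) := by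
  have hs' : s < 12 := hs
  exact w0chk_sound _ _ _ _ _ g2_w0chk0 s (by omega) (by omega)

/-- a reduced word of the longest element -/
def b2w0 : List ℕ := [0, 1, 0, 1]

theorem b2_w0chk0 : w0chk chevB2 b2wts b2w0 0 8 = true := by decide +kernel

theorem b2_w0 (s : ℕ) (hs : s < chevB2.nroots) :
    (chevB2.IsPosRoot s → chevB2.IsNegRoot (fP b2wts b2w0 s)) ∧
      (chevB2.IsNegRoot s → chevB2.IsPosRoot (gP b2wts b2w0 s)) := by
  have hs' : s < 8 := hs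
  exact w0chk_sound _ _ _ _ _ b2_w0chk0 s (by omega) (by omega)

/-- a reduced word of the longest element -/
def d4w0 : List ℕ := [0, 1, 0, 2, 1, 0, 3, 1, 0, 2, 1, 3]

theorem d4_w0chk0 : w0chk chevD4 d4wts d4w0 0 24 = true := by decide +kernel

theorem d4_w0 (s : ℕ) (hs : s < chevD4.nroots) :
    (chevD4.IsPosRoot s → chevD4.IsNegRoot (fP d4wts d4w0 s)) ∧
      (chevD4.IsNegRoot s → chevD4.IsPosRoot (gP d4wts d4w0 s)) := by
  have hs' : s < 24 := hs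
  exact w0chk_sound _ _ _ _ _ d4_w0chk0 s (by omega) (by omega)

/-- a reduced word of the longest element -/
def f4w0 : List ℕ := [0, 1, 0, 2, 1, 0, 2, 1, 2, 3, 2, 1, 0, 2, 1, 2, 3, 2, 1, 0, 2, 1, 2, 3]

theorem f4_w0chk0 : w0chk chevF4 f4wts f4w0 0 48 = true := by decide +kernel

theorem f4_w0 (s : ℕ) (hs : s < chevF4.nroots) :
    (chevF4.IsPosRoot s → chevF4.IsNegRoot (fP f4wts f4w0 s)) ∧
      (chevF4.IsNegRoot s → chevF4.IsPosRoot (gP f4wts f4w0 s)) := by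
  have hs' : s < 48 := hs
  exact w0chk_sound _ _ _ _ _ f4_w0chk0 s (by omega) (by omega)

/-- a reduced word of the longest element -/
def e6w0 : List ℕ := [0, 1, 2, 0, 3, 1, 2, 0, 3, 2, 4, 3, 1, 2, 0, 3, 2, 4, 3, 1, 5, 4, 3, 1, 2, 0, 3, 2, 4, 3, 1, 5, 4, 3, 2, 0]

theorem e6_w0chk0 : w0chk chevE6 e6wts e6w0 0 72 = true := by decide +kernel

theorem e6_w0 (s : ℕ) (hs : s < chevE6.nroots) :
    (chevE6.IsPosRoot s → chevE6.IsNegRoot (fP e6wts e6w0 s)) ∧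
      (chevE6.IsNegRoot s → chevE6.IsPosRoot (gP e6wts e6w0 s)) := by
  have hs' : s < 72 := hs
  exact w0chk_sound _ _ _ _ _ e6_w0chk0 s (by omega) (by omega)

/-- a reduced word of the longest element -/
def e7w0 : List ℕ := [0, 1, 2, 0, 3, 1, 2, 0, 3, 2, 4, 3, 1, 2, 0, 3, 2, 4, 3, 1, 5, 4, 3, 1, 2, 0, 3, 2, 4, 3, 1, 5, 4, 3, 2, 0, 6, 5, 4, 3, 1, 2, 0, 3, 2, 4, 3, 1, 5, 4, 3, 2, 0, 6, 5, 4, 3, 1, 2, 3, 4, 5, 6]

theorem e7_w0chk0 : w0chk chevE7 e7wts e7w0 0 63 = true := by decide +kernel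

theorem e7_w0chk1 : w0chk chevE7 e7wts e7w0 63 63 = true := by decide +kernel

theorem e7_w0 (s : ℕ) (hs : s < chevE7.nroots) :
    (chevE7.IsPosRoot s → chevE7.IsNegRoot (fP e7wts e7w0 s)) ∧
      (chevE7.IsNegRoot s → chevE7.IsPosRoot (gP e7wts e7w0 s)) := by
  have hs' : s < 126 := hs
  by_cases h0 : s < 63
  · exact w0chk_sound _ _ _ _ _ e7_w0chk0 s (by omega) (by omega)
  exact w0chk_sound _ _ _ _ _ e7_w0chk1 s (by omega) (by omega)

/-- a reduced word of the longest element -/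
def e8w0 : List ℕ := [0, 1, 2, 0, 3, 1, 2, 0, 3, 2, 4, 3, 1, 2, 0, 3, 2, 4, 3, 1, 5, 4, 3, 1, 2, 0, 3, 2, 4, 3, 1, 5, 4, 3, 2, 0, 6, 5, 4, 3, 1, 2, 0, 3, 2, 4, 3, 1, 5, 4, 3, 2, 0, 6, 5, 4, 3, 1, 2, 3, 4, 5, 6, 7, 6, 5, 4, 3, 1, 2, 0, 3, 2, 4, 3, 1, 5, 4, 3, 2, 0, 6, 5, 4, 3, 1, 2, 3, 4, 5, 6, 7, 6, 5, 4, 3, 1, 2, 0, 3, 2, 4, 3, 1, 5, 4, 3, 2, 0, 6, 5, 4, 3, 1, 2, 3, 4, 5, 6, 7]

theorem e8_w0chk0 : w0chk chevE8 e8wts e8w0 0 40 = true := by decide +kernel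

theorem e8_w0chk1 : w0chk chevE8 e8wts e8w0 40 40 = true := by decide +kernel

theorem e8_w0chk2 : w0chk chevE8 e8wts e8w0 80 40 = true := by decide +kernel

theorem e8_w0chk3 : w0chk chevE8 e8wts e8w0 120 40 = true := by decide +kernel

theorem e8_w0chk4 : w0chk chevE8 e8wts e8w0 160 40 = true := by decide +kernel

theorem e8_w0chk5 : w0chk chevE8 e8wts e8w0 200 40 = true := by decide +kernel

theorem e8_w0 (s : ℕ) (hs : s < chevE8.nroots) :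
    (chevE8.IsPosRoot s → chevE8.IsNegRoot (fP e8wts e8w0 s)) ∧
      (chevE8.IsNegRoot s → chevE8.IsPosRoot (gP e8wts e8w0 s)) := by
  have hs' : s < 240 := hs
  by_cases h0 : s < 40
  · exact w0chk_sound _ _ _ _ _ e8_w0chk0 s (by omega) (by omega)
  by_cases h1 : s < 80
  · exact w0chk_sound _ _ _ _ _ e8_w0chk1 s (by omega) (by omega)
  by_cases h2 : s < 120
  · exact w0chk_sound _ _ _ _ _ e8_w0chk2 s (by omega) (by omega)
  by_cases h3 : s < 160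
  · exact w0chk_sound _ _ _ _ _ e8_w0chk3 s (by omega) (by omega)
  by_cases h4 : s < 200
  · exact w0chk_sound _ _ _ _ _ e8_w0chk4 s (by omega) (by omega)
  exact w0chk_sound _ _ _ _ _ e8_w0chk5 s (by omega) (by omega)

end Cfsg.Agent.Lib.Helper36
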