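import Cfsg.Agent.Lib.Helper36.ChevDecG
import Cfsg.Agent.Lib.Helper36.ChevAutE8

set_option autoImplicit false

/-!
# Decomposition of the automorphisms of `D₄(q)`

The six graph automorphisms of `D₄(q)` (the identity, the two trialities and the three
transpositions of the outer nodes) and the decomposition inner * diagonal * graph * field.
-/

namespace Cfsg.Agent.Lib.Helper36

open Cfsg Cfsg.Lie Cfsg.Agent.Lib.Helper18

universe u

variable {F : Type u} [Field F]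

theorem hD4 : chevD4 ∈ [chevG2, chevB2, chevD4, chevF4, chevE6, chevE7, chevE8] := by simp

/-- the diagonal-field step from the form with `dAut` -/
theorem dfield_of_dAut {D : ChevalleyDatum}
    (hD : D ∈ [chevG2, chevB2, chevD4, chevF4, chevE6, chevE7, chevE8]) (hR : RcOK D)
    {θ' : MulAut ↥(D.group F)}
    (h : ∃ (d : Fin D.rank → Fˣ) (σ : F ≃+* F), ∀ φ : MulAut ↥(D.group F), FieldRel D φ σ →
      θ' = dAut D hD hR d * φ) :
    ∃ (x : ↥(D.group F)) (d f : MulAut ↥(D.group F)), D.IsDiagonalAut d ∧ D.IsFieldAut f ∧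
      θ' = MulAut.conj x * d * f := by
  obtain ⟨d, σ, h1⟩ := h
  exact dfield_of_diag hD ⟨rootChar D d, rootChar_isRootCharacter D hR d, σ, h1⟩

/-- Graph automorphism data (D4, transposition of the nodes 0 and 2). -/
def gaD4c : GraphAut := ⟨[2, 1, 0, 3], [0, 1, 2, 6, 7, 10, 3, 4, 8, 9, 5, 11, 12, 18, 14, 15, 19, 20, 13, 16, 17, 21, 22, 23],
  [1, 1, 1, -1, -1, 1, -1, -1, 1, 1, 1, 1, 1, 1, 1, 1, -1, -1, 1, -1, -1, 1, 1, 1], [2, 1, 0, 3],
  [0, 1, 2, 6, 7, 10, 3, 4, 8, 9, 5, 11, 12, 18, 14, 15, 19, 20, 13, 16, 17, 21, 22, 23]⟩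

set_option maxRecDepth 100000 in
theorem gaD4c_check : gaD4c.check chevD4 = true := by decide +kernel

/-- Graph automorphism data (D4, transposition of the nodes 2 and 3). -/
def gaD4d : GraphAut := ⟨[0, 1, 3, 2], [0, 1, 3, 2, 4, 5, 6, 8, 7, 9, 11, 10, 13, 12, 14, 16, 15, 17, 18, 19, 21, 20, 22, 23],
  [1, 1, 1, 1, 1, 1, 1, 1, 1, 1, 1, 1, 1, 1, 1, 1, 1, 1, 1, 1, 1, 1, 1, 1], [0, 1, 3, 2],
  [0, 1, 3, 2, 4, 5, 6, 8, 7, 9, 11, 10, 13, 12, 14, 16, 15, 17, 18, 19, 21, 20, 22, 23]⟩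

set_option maxRecDepth 100000 in
theorem gaD4d_check : gaD4d.check chevD4 = true := by decide +kernel

/-- Graph automorphism data (D4, transposition of the nodes 0 and 3). -/
def gaD4e : GraphAut := ⟨[3, 1, 2, 0], [0, 1, 6, 3, 8, 11, 2, 7, 4, 9, 10, 5, 18, 13, 14, 19, 16, 21, 12, 15, 20, 17, 22, 23],
  [1, 1, -1, 1, -1, 1, -1, 1, -1, 1, 1, 1, 1, 1, 1, -1, 1, -1, 1, -1, 1, -1, 1, 1], [3, 1, 2, 0],
  [0, 1, 6, 3, 8, 11, 2, 7, 4, 9, 10, 5, 18, 13, 14, 19, 16, 21, 12, 15, 20, 17, 22, 23]⟩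

set_option maxRecDepth 100000 in
theorem gaD4e_check : gaD4e.check chevD4 = true := by decide +kernel

set_option maxRecDepth 100000 in
theorem gaD4_sgn : gaSgnChk gaD4a chevD4 = true ∧ gaSgnChk gaD4b chevD4 = true ∧
    gaSgnChk gaD4c chevD4 = true ∧ gaSgnChk gaD4d chevD4 = true ∧
    gaSgnChk gaD4e chevD4 = true := by decide +kernel

theorem d4_bonds (A : GraphAut) (hA : A.np = [2, 1, 3, 0] ∨ A.np = [3, 1, 0, 2] ∨
    A.np = [2, 1, 0, 3] ∨ A.np = [0, 1, 3, 2] ∨ A.np = [3, 1, 2, 0]) :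
    ∀ i j : Fin chevD4.rank, i ≠ j →
      chevD4.bonds (A.np.getD i.val 0) (A.np.getD j.val 0) = chevD4.bonds i.val j.val := by
  rcases hA with h | h | h | h | h <;> rw [h] <;> decide

theorem d4_notLong : ∀ i : Fin chevD4.rank, chevD4.isLong (chevD4.simple i.val) = false := by
  decide

theorem dynOK_D4 : DynOK chevD4 :=
  dynOK_of_chk chevD4 1 [(0, 1), (2, 1), (3, 1)] (by decide) (by decide) (by decide)

set_option maxRecDepth 100000 in
theorem rcOK_D4 : RcOK chevD4 :=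
  ⟨by decide +kernel, by decide +kernel, by decide +kernel, by decide +kernel⟩

set_option synthInstance.maxHeartbeats 400000 in
set_option synthInstance.maxSize 4096 in
set_option maxRecDepth 100000 in
theorem d4_rigid_aux : ∀ a0 a1 a2 a3 : Fin 4, a0 ≠ a1 → a0 ≠ a2 → a0 ≠ a3 → a1 ≠ a2 →
    a1 ≠ a3 → a2 ≠ a3 → adjB chevD4 a1 a0 = true → adjB chevD4 a1 a2 = true →
    adjB chevD4 a1 a3 = true →
    ((a0.val = 0 ∧ a1.val = 1 ∧ a2.val = 2 ∧ a3.val = 3) ∨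
      (a0.val = 2 ∧ a1.val = 1 ∧ a2.val = 3 ∧ a3.val = 0) ∨
      (a0.val = 3 ∧ a1.val = 1 ∧ a2.val = 0 ∧ a3.val = 2) ∨
      (a0.val = 2 ∧ a1.val = 1 ∧ a2.val = 0 ∧ a3.val = 3) ∨
      (a0.val = 0 ∧ a1.val = 1 ∧ a2.val = 3 ∧ a3.val = 2) ∨
      (a0.val = 3 ∧ a1.val = 1 ∧ a2.val = 2 ∧ a3.val = 0)) := by
  decide +kernel

theorem d4_fin {P : Fin chevD4.rank → Prop} (h0 : P ⟨0, by decide⟩) (h1 : P ⟨1, by decide⟩)
    (h2 : P ⟨2, by decide⟩) (h3 : P ⟨3, by decide⟩) : ∀ i, P i := by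
  intro i
  obtain ⟨k, hk⟩ := i
  have hk' : k < 4 := hk
  interval_cases k
  · exact h0
  · exact h1
  · exact h2
  · exact h3

/-- the graph automorphism attached to the permutation of the fundamental root subgroups
induced by an automorphism of `D₄(q)` stabilising `U` and `V` -/
theorem d4_graph [Fintype F] (θ₁ : MulAut ↥(chevD4.group F)) (hS : StabUV chevD4 θ₁) :
    ∃ (π : Fin chevD4.rank → Fin chevD4.rank) (γ : MulAut ↥(chevD4.group F)),
      Function.Injective π ∧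
      (∀ i, MapsSub chevD4 θ₁ (chevD4.rootSubgroup F (chevD4.simple i.val))
        (chevD4.rootSubgroup F (chevD4.simple (π i).val))) ∧
      (∀ i, MapsSub chevD4 θ₁ (chevD4.rootSubgroup F (chevD4.neg (chevD4.simple i.val)))
        (chevD4.rootSubgroup F (chevD4.neg (chevD4.simple (π i).val)))) ∧
      StabUV chevD4 γ ∧ chevD4.IsGraphAut γ ∧
      (∀ i, MapsSub chevD4 γ (chevD4.rootSubgroup F (chevD4.simple i.val))
        (chevD4.rootSubgroup F (chevD4.simple (π i).val))) ∧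
      (∀ i, MapsSub chevD4 γ (chevD4.rootSubgroup F (chevD4.neg (chevD4.simple i.val)))
        (chevD4.rootSubgroup F (chevD4.neg (chevD4.simple (π i).val)))) := by
  have hO : SimpOK chevD4 F hD4 := simpOK_of_chk chevD4 hD4 simpleChk_D4
  obtain ⟨π, hinj, hadj, hpos, hneg⟩ := hS.exists_perm hD4 hO
  have hne : ∀ i j : Fin chevD4.rank, i ≠ j → π i ≠ π j := fun i j h e => h (hinj e)
  have A : ∀ i j : Fin chevD4.rank, i ≠ j → chevD4.cartan i.val (chevD4.simple j.val) ≠ 0 →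
      adjB chevD4 (π i).val (π j).val = true := fun i j h1 h2 => decide_eq_true (hadj i j h1 h2)
  have key := d4_rigid_aux (π ⟨0, by decide⟩) (π ⟨1, by decide⟩) (π ⟨2, by decide⟩)
    (π ⟨3, by decide⟩)
    (hne _ _ (by decide)) (hne _ _ (by decide)) (hne _ _ (by decide)) (hne _ _ (by decide))
    (hne _ _ (by decide)) (hne _ _ (by decide))
    (A ⟨1, by decide⟩ ⟨0, by decide⟩ (by decide) (by decide))
    (A ⟨1, by decide⟩ ⟨2, by decide⟩ (by decide) (by decide))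
    (A ⟨1, by decide⟩ ⟨3, by decide⟩ (by decide) (by decide))
  obtain ⟨sa, sb, sc, sd, se⟩ := gaD4_sgn
  rcases key with ⟨h0, h1, h2, h3⟩ | ⟨h0, h1, h2, h3⟩ | ⟨h0, h1, h2, h3⟩ | ⟨h0, h1, h2, h3⟩ |
    ⟨h0, h1, h2, h3⟩ | ⟨h0, h1, h2, h3⟩
  · have hid : ∀ i, π i = i :=
      d4_fin (P := fun i => π i = i) (Fin.ext h0) (Fin.ext h1) (Fin.ext h2) (Fin.ext h3)
    obtain ⟨a, b, c, d⟩ := one_good (F := F) chevD4
    exact ⟨π, 1, hinj, hpos, hneg, a, b, fun i => by rw [hid i]; exact c i,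
      fun i => by rw [hid i]; exact d i⟩
  · obtain ⟨a, b, c, d⟩ := ga_good (F := F) gaD4a chevD4 hD4 gaD4a_check sa
      (d4_bonds gaD4a (Or.inl rfl)) d4_notLong π hinj
      (d4_fin (P := fun i => (π i).val = gaD4a.np.getD i.val 0) h0 h1 h2 h3)
    exact ⟨π, _, hinj, hpos, hneg, a, b, c, d⟩
  · obtain ⟨a, b, c, d⟩ := ga_good (F := F) gaD4b chevD4 hD4 gaD4b_check sb
      (d4_bonds gaD4b (Or.inr (Or.inl rfl))) d4_notLong π hinj
      (d4_fin (P := fun i => (π i).val = gaD4b.np.getD i.val 0) h0 h1 h2 h3)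
    exact ⟨π, _, hinj, hpos, hneg, a, b, c, d⟩
  · obtain ⟨a, b, c, d⟩ := ga_good (F := F) gaD4c chevD4 hD4 gaD4c_check sc
      (d4_bonds gaD4c (Or.inr (Or.inr (Or.inl rfl)))) d4_notLong π hinj
      (d4_fin (P := fun i => (π i).val = gaD4c.np.getD i.val 0) h0 h1 h2 h3)
    exact ⟨π, _, hinj, hpos, hneg, a, b, c, d⟩
  · obtain ⟨a, b, c, d⟩ := ga_good (F := F) gaD4d chevD4 hD4 gaD4d_check sd
      (d4_bonds gaD4d (Or.inr (Or.inr (Or.inr (Or.inl rfl))))) d4_notLong π hinj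
      (d4_fin (P := fun i => (π i).val = gaD4d.np.getD i.val 0) h0 h1 h2 h3)
    exact ⟨π, _, hinj, hpos, hneg, a, b, c, d⟩
  · obtain ⟨a, b, c, d⟩ := ga_good (F := F) gaD4e chevD4 hD4 gaD4e_check se
      (d4_bonds gaD4e (Or.inr (Or.inr (Or.inr (Or.inr rfl))))) d4_notLong π hinj
      (d4_fin (P := fun i => (π i).val = gaD4e.np.getD i.val 0) h0 h1 h2 h3)
    exact ⟨π, _, hinj, hpos, hneg, a, b, c, d⟩

/-- every automorphism of `D₄(q)` is inner * diagonal * graph * field -/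
theorem decomp_D4 [Fintype F] (p : ℕ) [Fact p.Prime] [CharP F p]
    (θ : MulAut ↥(chevD4.group F)) :
    ∃ (x : ↥(chevD4.group F)) (d g f : ↥(chevD4.group F) ≃* ↥(chevD4.group F)),
      chevD4.IsDiagonalAut d ∧ chevD4.IsGraphAut g ∧ chevD4.IsFieldAut f ∧
        ∀ y : ↥(chevD4.group F), θ y = x * d (g (f y)) * x⁻¹ :=
  decomp_main hD4 p d4_graph (fun _ hS hpos hneg =>
    dfield_of_dAut hD4 rcOK_D4 (hS.eq_diag_field hD4 (simpOK_of_chk chevD4 hD4 simpleChk_D4)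
      dynOK_D4 rcOK_D4 hpos hneg)) θ

end Cfsg.Agent.Lib.Helper36
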