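import Cfsg.Agent.Lib.Helper36.ChevRootPair
import Cfsg.Agent.Lib.Helper36.ChevHighCentData

set_option autoImplicit false
set_option maxRecDepth 1000000

namespace Cfsg.Agent.Lib.Helper36

open Cfsg Cfsg.Lie

universe u

variable {F : Type u} [Field F]

def posCertG2 : List (List ℕ) :=
  [[], [1, 0], [0, 1, 0], [0, 1], [0], [1], [], [], [], [], [], []]

theorem posChk_G2 : posChk chevG2 11 posCertG2 = true := by decide +kernel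

def posCertD4 : List (List ℕ) :=
  [[], [0, 1, 2, 3], [0, 1, 2], [0, 1, 3], [0, 1], [0], [2, 1, 3], [2, 1], [3, 1], [1], [2], [3],
   [], [], [], [], [], [], [], [], [], [], [], []]

theorem posChk_D4 : posChk chevD4 23 posCertD4 = true := by decide +kernel

def posCertE6 : List (List ℕ) :=
  [[], [0, 2, 3, 1, 4, 3, 2, 5, 4, 3], [0, 2, 3, 1, 4, 3, 2, 5, 4], [0, 2, 3, 1, 4, 3, 2, 5],
   [0, 2, 3, 1, 4, 3, 2], [0, 2, 3, 1, 4, 3, 5, 4], [0, 2, 3, 1, 4, 3, 5], [0, 2, 3, 1, 4, 3],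
   [0, 2, 3, 1, 4, 5], [0, 2, 3, 1, 4], [0, 2, 3, 1], [5, 4, 3, 2, 0], [4, 3, 2, 0], [3, 2, 0],
   [2, 0], [0], [2, 3, 1, 4, 3, 5, 4], [2, 3, 1, 4, 3, 5], [2, 3, 1, 4, 3], [2, 3, 1, 4, 5],
   [2, 3, 1, 4], [2, 3, 1], [5, 4, 3, 1], [4, 3, 1], [3, 1], [1], [5, 4, 3, 2], [4, 3, 2],
   [3, 2], [2], [5, 4, 3], [4, 3], [3], [5, 4], [4], [5], [], [], [], [], [], [], [], [], [], [],
   [], [], [], [], [], [], [], [], [], [], [], [], [], [], [], [], [], [], [], [], [], [], [],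
   [], [], []]

theorem posChk_E6 : posChk chevE6 71 posCertE6 = true := by decide +kernel

def posCertE7 : List (List ℕ) :=
  [[], [1, 3, 2, 0, 4, 3, 2, 5, 4, 3, 1, 6, 5, 4, 3, 2],
   [1, 3, 2, 0, 4, 3, 2, 5, 4, 3, 1, 6, 5, 4, 3], [1, 3, 2, 0, 4, 3, 2, 5, 4, 3, 1, 6, 5, 4],
   [1, 3, 2, 0, 4, 3, 2, 5, 4, 3, 1, 6, 5], [1, 3, 2, 0, 4, 3, 2, 5, 4, 3, 1, 6],
   [1, 3, 2, 0, 4, 3, 2, 5, 4, 3, 1], [1, 3, 2, 0, 4, 3, 2, 5, 4, 3, 6, 5, 4],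
   [1, 3, 2, 0, 4, 3, 2, 5, 4, 3, 6, 5], [1, 3, 2, 0, 4, 3, 2, 5, 4, 3, 6],
   [1, 3, 2, 0, 4, 3, 2, 5, 4, 3], [1, 3, 2, 0, 4, 3, 2, 5, 4, 6, 5],
   [1, 3, 2, 0, 4, 3, 2, 5, 4, 6], [1, 3, 2, 0, 4, 3, 2, 5, 4], [1, 3, 2, 0, 4, 3, 2, 5, 6],
   [1, 3, 2, 0, 4, 3, 2, 5], [1, 3, 2, 0, 4, 3, 2], [1, 3, 2, 0, 4, 3, 5, 4, 6, 5],
   [1, 3, 2, 0, 4, 3, 5, 4, 6], [1, 3, 2, 0, 4, 3, 5, 4], [1, 3, 2, 0, 4, 3, 5, 6],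
   [1, 3, 2, 0, 4, 3, 5], [1, 3, 2, 0, 4, 3], [1, 3, 2, 0, 4, 5, 6], [1, 3, 2, 0, 4, 5],
   [1, 3, 2, 0, 4], [1, 3, 2, 0], [6, 5, 4, 3, 2, 0], [5, 4, 3, 2, 0], [4, 3, 2, 0], [3, 2, 0],
   [2, 0], [0], [6, 5, 4, 3, 1, 2, 3, 4, 5], [6, 5, 4, 3, 1, 2, 3, 4], [5, 4, 3, 1, 2, 3, 4],
   [6, 5, 4, 3, 1, 2, 3], [5, 4, 3, 1, 2, 3], [4, 3, 1, 2, 3], [6, 5, 4, 3, 1, 2],
   [5, 4, 3, 1, 2], [4, 3, 1, 2], [3, 1, 2], [6, 5, 4, 3, 1], [5, 4, 3, 1], [4, 3, 1], [3, 1],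
   [1], [6, 5, 4, 3, 2], [5, 4, 3, 2], [4, 3, 2], [3, 2], [2], [6, 5, 4, 3], [5, 4, 3], [4, 3],
   [3], [6, 5, 4], [5, 4], [4], [6, 5], [5], [6], [], [], [], [], [], [], [], [], [], [], [], [],
   [], [], [], [], [], [], [], [], [], [], [], [], [], [], [], [], [], [], [], [], [], [], [],
   [], [], [], [], [], [], [], [], [], [], [], [], [], [], [], [], [], [], [], [], [], [], [],
   [], [], [], [], []]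

theorem posChk_E7 : posChk chevE7 125 posCertE7 = true := by decide +kernel

def posCertE8 : List (List ℕ) :=
  [[], [0, 2, 3, 1, 4, 3, 2, 5, 4, 3, 1, 6, 5, 4, 3, 2, 0, 7, 6, 5, 4, 3, 1, 2, 3, 4, 5, 6],
   [0, 2, 3, 1, 4, 3, 2, 5, 4, 3, 1, 6, 5, 4, 3, 2, 0, 7, 6, 5, 4, 3, 1, 2, 3, 4, 5],
   [0, 2, 3, 1, 4, 3, 2, 5, 4, 3, 1, 6, 5, 4, 3, 2, 0, 7, 6, 5, 4, 3, 1, 2, 3, 4],
   [0, 2, 3, 1, 4, 3, 2, 5, 4, 3, 1, 6, 5, 4, 3, 2, 0, 7, 6, 5, 4, 3, 1, 2, 3],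
   [0, 2, 3, 1, 4, 3, 2, 5, 4, 3, 1, 6, 5, 4, 3, 2, 0, 7, 6, 5, 4, 3, 1, 2],
   [0, 2, 3, 1, 4, 3, 2, 5, 4, 3, 1, 6, 5, 4, 3, 2, 0, 7, 6, 5, 4, 3, 1],
   [0, 2, 3, 1, 4, 3, 2, 5, 4, 3, 1, 6, 5, 4, 3, 2, 0, 7, 6, 5, 4, 3, 2],
   [0, 2, 3, 1, 4, 3, 2, 5, 4, 3, 1, 6, 5, 4, 3, 2, 0, 7, 6, 5, 4, 3],
   [0, 2, 3, 1, 4, 3, 2, 5, 4, 3, 1, 6, 5, 4, 3, 2, 0, 7, 6, 5, 4],
   [0, 2, 3, 1, 4, 3, 2, 5, 4, 3, 1, 6, 5, 4, 3, 2, 0, 7, 6, 5],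
   [0, 2, 3, 1, 4, 3, 2, 5, 4, 3, 1, 6, 5, 4, 3, 2, 0, 7, 6],
   [0, 2, 3, 1, 4, 3, 2, 5, 4, 3, 1, 6, 5, 4, 3, 2, 0, 7],
   [6, 5, 4, 3, 1, 2, 0, 3, 2, 4, 3, 1, 5, 4, 3, 2, 0],
   [0, 2, 3, 1, 4, 3, 2, 5, 4, 3, 1, 6, 5, 4, 3, 2, 7, 6, 5, 4, 3, 1],
   [0, 2, 3, 1, 4, 3, 2, 5, 4, 3, 1, 6, 5, 4, 3, 2, 7, 6, 5, 4, 3],
   [0, 2, 3, 1, 4, 3, 2, 5, 4, 3, 1, 6, 5, 4, 3, 2, 7, 6, 5, 4],
   [0, 2, 3, 1, 4, 3, 2, 5, 4, 3, 1, 6, 5, 4, 3, 2, 7, 6, 5],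
   [0, 2, 3, 1, 4, 3, 2, 5, 4, 3, 1, 6, 5, 4, 3, 2, 7, 6],
   [0, 2, 3, 1, 4, 3, 2, 5, 4, 3, 1, 6, 5, 4, 3, 2, 7],
   [6, 5, 4, 3, 1, 2, 0, 3, 2, 4, 3, 1, 5, 4, 3, 2],
   [0, 2, 3, 1, 4, 3, 2, 5, 4, 3, 1, 6, 5, 4, 3, 7, 6, 5, 4],
   [0, 2, 3, 1, 4, 3, 2, 5, 4, 3, 1, 6, 5, 4, 3, 7, 6, 5],
   [0, 2, 3, 1, 4, 3, 2, 5, 4, 3, 1, 6, 5, 4, 3, 7, 6],
   [0, 2, 3, 1, 4, 3, 2, 5, 4, 3, 1, 6, 5, 4, 3, 7],
   [6, 5, 4, 3, 1, 2, 0, 3, 2, 4, 3, 1, 5, 4, 3],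
   [0, 2, 3, 1, 4, 3, 2, 5, 4, 3, 1, 6, 5, 4, 7, 6, 5],
   [0, 2, 3, 1, 4, 3, 2, 5, 4, 3, 1, 6, 5, 4, 7, 6],
   [0, 2, 3, 1, 4, 3, 2, 5, 4, 3, 1, 6, 5, 4, 7], [6, 5, 4, 3, 1, 2, 0, 3, 2, 4, 3, 1, 5, 4],
   [0, 2, 3, 1, 4, 3, 2, 5, 4, 3, 1, 6, 5, 7, 6], [0, 2, 3, 1, 4, 3, 2, 5, 4, 3, 1, 6, 5, 7],
   [6, 5, 4, 3, 1, 2, 0, 3, 2, 4, 3, 1, 5], [0, 2, 3, 1, 4, 3, 2, 5, 4, 3, 1, 6, 7],
   [6, 5, 4, 3, 1, 2, 0, 3, 2, 4, 3, 1], [5, 4, 3, 1, 2, 0, 3, 2, 4, 3, 1],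
   [0, 2, 3, 1, 4, 3, 2, 5, 4, 3, 6, 5, 4, 7, 6, 5],
   [0, 2, 3, 1, 4, 3, 2, 5, 4, 3, 6, 5, 4, 7, 6], [0, 2, 3, 1, 4, 3, 2, 5, 4, 3, 6, 5, 4, 7],
   [6, 5, 4, 3, 1, 2, 0, 3, 2, 4, 3, 5, 4], [0, 2, 3, 1, 4, 3, 2, 5, 4, 3, 6, 5, 7, 6],
   [0, 2, 3, 1, 4, 3, 2, 5, 4, 3, 6, 5, 7], [6, 5, 4, 3, 1, 2, 0, 3, 2, 4, 3, 5],
   [0, 2, 3, 1, 4, 3, 2, 5, 4, 3, 6, 7], [6, 5, 4, 3, 1, 2, 0, 3, 2, 4, 3],
   [5, 4, 3, 1, 2, 0, 3, 2, 4, 3], [0, 2, 3, 1, 4, 3, 2, 5, 4, 6, 5, 7, 6],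
   [0, 2, 3, 1, 4, 3, 2, 5, 4, 6, 5, 7], [6, 5, 4, 3, 1, 2, 0, 3, 2, 4, 5],
   [0, 2, 3, 1, 4, 3, 2, 5, 4, 6, 7], [6, 5, 4, 3, 1, 2, 0, 3, 2, 4],
   [5, 4, 3, 1, 2, 0, 3, 2, 4], [0, 2, 3, 1, 4, 3, 2, 5, 6, 7], [6, 5, 4, 3, 1, 2, 0, 3, 2],
   [5, 4, 3, 1, 2, 0, 3, 2], [4, 3, 1, 2, 0, 3, 2], [0, 2, 3, 1, 4, 3, 5, 4, 6, 5, 7, 6],
   [0, 2, 3, 1, 4, 3, 5, 4, 6, 5, 7], [6, 5, 4, 3, 1, 2, 0, 3, 4, 5],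
   [0, 2, 3, 1, 4, 3, 5, 4, 6, 7], [6, 5, 4, 3, 1, 2, 0, 3, 4], [5, 4, 3, 1, 2, 0, 3, 4],
   [0, 2, 3, 1, 4, 3, 5, 6, 7], [6, 5, 4, 3, 1, 2, 0, 3], [5, 4, 3, 1, 2, 0, 3],
   [4, 3, 1, 2, 0, 3], [0, 2, 3, 1, 4, 5, 6, 7], [6, 5, 4, 3, 1, 2, 0], [5, 4, 3, 1, 2, 0],
   [4, 3, 1, 2, 0], [3, 1, 2, 0], [0, 2, 3, 4, 5, 6, 7], [6, 5, 4, 3, 2, 0], [5, 4, 3, 2, 0],
   [4, 3, 2, 0], [3, 2, 0], [2, 0], [0], [1, 3, 2, 4, 3, 5, 4, 6, 5, 7, 6],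
   [1, 3, 2, 4, 3, 5, 4, 6, 5, 7], [6, 5, 4, 3, 1, 2, 3, 4, 5], [1, 3, 2, 4, 3, 5, 4, 6, 7],
   [6, 5, 4, 3, 1, 2, 3, 4], [5, 4, 3, 1, 2, 3, 4], [1, 3, 2, 4, 3, 5, 6, 7],
   [6, 5, 4, 3, 1, 2, 3], [5, 4, 3, 1, 2, 3], [4, 3, 1, 2, 3], [1, 3, 2, 4, 5, 6, 7],
   [6, 5, 4, 3, 1, 2], [5, 4, 3, 1, 2], [4, 3, 1, 2], [3, 1, 2], [1, 3, 4, 5, 6, 7],
   [6, 5, 4, 3, 1], [5, 4, 3, 1], [4, 3, 1], [3, 1], [1], [2, 3, 4, 5, 6, 7], [6, 5, 4, 3, 2],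
   [5, 4, 3, 2], [4, 3, 2], [3, 2], [2], [3, 4, 5, 6, 7], [6, 5, 4, 3], [5, 4, 3], [4, 3], [3],
   [4, 5, 6, 7], [6, 5, 4], [5, 4], [4], [5, 6, 7], [6, 5], [5], [6, 7], [6], [7], [], [], [],
   [], [], [], [], [], [], [], [], [], [], [], [], [], [], [], [], [], [], [], [], [], [], [],
   [], [], [], [], [], [], [], [], [], [], [], [], [], [], [], [], [], [], [], [], [], [], [],
   [], [], [], [], [], [], [], [], [], [], [], [], [], [], [], [], [], [], [], [], [], [], [],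
   [], [], [], [], [], [], [], [], [], [], [], [], [], [], [], [], [], [], [], [], [], [], [],
   [], [], [], [], [], [], [], [], [], [], [], [], [], [], [], [], [], [], [], [], [], [], [],
   [], []]

theorem posChk_E8 : posChk chevE8 239 posCertE8 = true := by decide +kernel

theorem highChk_D4 : highChk chevD4 23 1 = true := by decide +kernel

theorem neg_G2 : chevG2.neg 11 = 0 := by decide +kernel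

theorem root_pair_G2 [Fintype F] [CharP F 2] (g : GL chevG2.Idx F) (hg : g ∈ chevG2.group F) :
    IsPGroup 2 ↥(chevG2.rootSubgroup F 11 ⊔
        (chevG2.rootSubgroup F 11).map (MulAut.conj g).toMonoidHom) ∨
      ∃ h ∈ chevG2.group F, (chevG2.rootSubgroup F 11 ⊔
          (chevG2.rootSubgroup F 11).map (MulAut.conj g).toMonoidHom).map
            (MulAut.conj h).toMonoidHom =
        chevG2.rootSubgroup F 11 ⊔ chevG2.rootSubgroup F 0 := by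
  have h := root_pair (F := F) chevG2 (by simp) 11 1
    (highOK_of_chk _ (by simp) _ _ highChk_G2) posCertG2 posChk_G2 g hg
  rw [neg_G2] at h
  exact h

theorem neg_D4 : chevD4.neg 23 = 0 := by decide +kernel

theorem root_pair_D4 [Fintype F] [CharP F 2] (g : GL chevD4.Idx F) (hg : g ∈ chevD4.group F) :
    IsPGroup 2 ↥(chevD4.rootSubgroup F 23 ⊔
        (chevD4.rootSubgroup F 23).map (MulAut.conj g).toMonoidHom) ∨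
      ∃ h ∈ chevD4.group F, (chevD4.rootSubgroup F 23 ⊔
          (chevD4.rootSubgroup F 23).map (MulAut.conj g).toMonoidHom).map
            (MulAut.conj h).toMonoidHom =
        chevD4.rootSubgroup F 23 ⊔ chevD4.rootSubgroup F 0 := by
  have h := root_pair (F := F) chevD4 (by simp) 23 1
    (highOK_of_chk _ (by simp) _ _ highChk_D4) posCertD4 posChk_D4 g hg
  rw [neg_D4] at h
  exact h

theorem neg_E6 : chevE6.neg 71 = 0 := by decide +kernel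

theorem root_pair_E6 [Fintype F] [CharP F 2] (g : GL chevE6.Idx F) (hg : g ∈ chevE6.group F) :
    IsPGroup 2 ↥(chevE6.rootSubgroup F 71 ⊔
        (chevE6.rootSubgroup F 71).map (MulAut.conj g).toMonoidHom) ∨
      ∃ h ∈ chevE6.group F, (chevE6.rootSubgroup F 71 ⊔
          (chevE6.rootSubgroup F 71).map (MulAut.conj g).toMonoidHom).map
            (MulAut.conj h).toMonoidHom =
        chevE6.rootSubgroup F 71 ⊔ chevE6.rootSubgroup F 0 := by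
  have h := root_pair (F := F) chevE6 (by simp) 71 1
    (highOK_of_chk _ (by simp) _ _ highChk_E6) posCertE6 posChk_E6 g hg
  rw [neg_E6] at h
  exact h

theorem neg_E7 : chevE7.neg 125 = 0 := by decide +kernel

theorem root_pair_E7 [Fintype F] [CharP F 2] (g : GL chevE7.Idx F) (hg : g ∈ chevE7.group F) :
    IsPGroup 2 ↥(chevE7.rootSubgroup F 125 ⊔
        (chevE7.rootSubgroup F 125).map (MulAut.conj g).toMonoidHom) ∨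
      ∃ h ∈ chevE7.group F, (chevE7.rootSubgroup F 125 ⊔
          (chevE7.rootSubgroup F 125).map (MulAut.conj g).toMonoidHom).map
            (MulAut.conj h).toMonoidHom =
        chevE7.rootSubgroup F 125 ⊔ chevE7.rootSubgroup F 0 := by
  have h := root_pair (F := F) chevE7 (by simp) 125 0
    (highOK_of_chk _ (by simp) _ _ highChk_E7) posCertE7 posChk_E7 g hg
  rw [neg_E7] at h
  exact h

theorem neg_E8 : chevE8.neg 239 = 0 := by decide +kernel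

theorem root_pair_E8 [Fintype F] [CharP F 2] (g : GL chevE8.Idx F) (hg : g ∈ chevE8.group F) :
    IsPGroup 2 ↥(chevE8.rootSubgroup F 239 ⊔
        (chevE8.rootSubgroup F 239).map (MulAut.conj g).toMonoidHom) ∨
      ∃ h ∈ chevE8.group F, (chevE8.rootSubgroup F 239 ⊔
          (chevE8.rootSubgroup F 239).map (MulAut.conj g).toMonoidHom).map
            (MulAut.conj h).toMonoidHom =
        chevE8.rootSubgroup F 239 ⊔ chevE8.rootSubgroup F 0 := by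
  have h := root_pair (F := F) chevE8 (by simp) 239 7
    (highOK_of_chk _ (by simp) _ _ highChk_E8) posCertE8 posChk_E8 g hg
  rw [neg_E8] at h
  exact h

end Cfsg.Agent.Lib.Helper36
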