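import Cfsg.Agent.Lib.Helper36.FoldMain

set_option autoImplicit false

/-!
# Folding tables: D4 to G2
-/

namespace Cfsg.Agent.Lib.Helper36

open Cfsg Cfsg.Lie Cfsg.Agent.Lib.Helper18 Cfsg.Agent.Lib.Helper17

/-- folded words of the classes -/
def fd4Cls : List (List (ℕ × ℤ)) :=
  [[(0, 1)], [(1, 1)], [(2, 1), (6, -1), (3, 1)], [(4, 1), (7, -1), (8, -1)], [(5, 1), (10, 1), (11, 1)], [(9, 1)], [(14, 1)], [(12, 1), (18, 1), (13, 1)], [(15, 1), (19, -1), (16, 1)], [(17, 1), (20, -1), (21, -1)], [(22, 1)], [(23, 1)]]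

/-- signs of the small root elements -/
def fd4Eta : List ℤ :=
  [-1, -1, -1, 1, 1, 1, 1, 1, -1, 1, -1, -1]

/-- the intertwining matrix -/
def fd4B : List (List (ℕ × ℤ)) :=
  [[(0, 1), (2, 1), (3, 1)], [(1, 1)], [(4, -1)], [(5, -1)], [(6, -1), (10, 1), (7, -1)], [(8, 1), (11, -1), (12, -1)], [(9, 1), (14, 1), (15, 1)], [(13, 1)], [(18, 1)], [(16, 1), (22, 1), (17, 1)], [(19, -1), (23, 1), (20, -1)], [(21, 1), (24, -1), (25, -1)], [(26, -1)], [(27, -1)]]

/-- pivot rows -/
def fd4Pick : List (ℕ × ℤ) :=
  [(0, 1), (1, 1), (4, -1), (5, -1), (6, -1), (8, 1), (9, 1), (13, 1), (18, 1), (16, 1), (19, -1), (21, 1), (26, -1), (27, -1)]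

/-- class weights -/
def fd4Mu : List ℤ :=
  [-26, -25, -17, -17, -9, -8, -17, -9, -9, -1, -8, -8, 8, 8, 1, 9, 9, 17, 8, 9, 17, 17, 25, 26]

/-- node orbits -/
def fd4Orb : List (List ℕ) :=
  [[0, 2, 3], [1]]

/-- small node of a node -/
def fd4Node : List ℕ :=
  [0, 1, 0, 0]


/-- exponents solving the torus equations -/
def fd4E : List (List ℤ) :=
  [[2, 1], [3, 2]]

/-- representatives of the node orbits -/
def fd4Rep : List ℕ :=
  [0, 1]

/-- weights of the small roots -/
def fd4Mu' : List ℤ :=
  [-26, -25, -17, -9, -8, -1, 1, 8, 9, 17, 25, 26]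

/-- the tables of the folding -/
def fd4Tab : FoldTab :=
  ⟨fd4Cls, fd4Eta, fd4B, fd4Pick, fd4Mu, fd4Orb, fd4Node, fd4E, fd4Rep⟩

set_option maxRecDepth 100000 in
theorem fd4_A : FoldA chevD4 chevG2 gaD4a fd4Tab where
  rp_lt := by decide +kernel
  rp_inv := by decide +kernel
  sg := by decide +kernel
  rp_pos := by decide +kernel
  rp_neg := by decide +kernel
  cls_lt := by decide +kernel
  cls_rot := by decide +kernel
  cls_comm := by decide +kernel
  cls_nodup := by decide +kernel
  cls_pos := by decide +kernel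
  cls_neg := by decide +kernel
  cls_orb := by decide +kernel
  cls_all := by decide +kernel
  eta := by decide +kernel

set_option maxRecDepth 100000 in
theorem fd4_B : FoldB chevD4 chevG2 fd4Tab 2000 where
  wt := wtH_of_chk chevD4 fd4Mu 2000 (by decide) (by decide +kernel) (by decide +kernel) (by decide +kernel)
  mu_pos := by decide +kernel
  mu_neg := by decide +kernel
  ord := by decide +kernel
  ord_all := by decide +kernel

set_option maxRecDepth 100000 in
theorem fd4_C : FoldC chevD4 chevG2 gaD4a fd4Tab where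
  np_lt := by decide +kernel
  simp := by decide +kernel
  node_lt := by decide +kernel
  orb_mem := by decide +kernel
  orb_lt := by decide +kernel
  orb_nodup := by decide +kernel
  orb_rho := by decide +kernel
  orb_orth := by decide +kernel
  nchk := by decide +kernel
  hchk := by decide +kernel
  ex := by decide +kernel
  rep_lt := by decide +kernel
  rep := by decide +kernel

set_option maxRecDepth 100000 in
theorem fd4_D : FoldD chevD4 chevG2 fd4Tab fd4Mu' 2000 where
  b_len := by decide +kernel
  inter := by decide +kernel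
  pick := by decide +kernel
  wt' := wtH_of_chk chevG2 fd4Mu' 2000 (by decide) (by decide +kernel) (by decide +kernel) (by decide +kernel)
  mu'_pos := by decide +kernel
  b_wt := by decide +kernel
  b_cls := by decide +kernel

end Cfsg.Agent.Lib.Helper36
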