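import Cfsg.Agent.Lib.Helper36.ChevHighCentData
import Cfsg.Agent.Lib.Helper17.ChevUProd

set_option autoImplicit false

/-!
# The short root involution of `G₂` in characteristic `2`: root elements

Commutation of the root elements of `G₂` in characteristic `2` that enter the centraliser of
`x_{2a+b}(1)`, and the abelian group `X_{2a+b} X_{3a+b} X_{3a+2b}`.
-/

namespace Cfsg.Agent.Lib.Helper36

open Cfsg Cfsg.Lie Cfsg.Agent.Lib.Helper18

universe u

variable {F : Type u} [Field F]

theorem g2m : chevG2 ∈ [chevG2, chevB2, chevD4, chevF4, chevE6, chevE7, chevE8] := by simp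

/-- commuting root elements of `G₂` in characteristic `2` -/
theorem g2_comm [CharP F 2] (r s : ℕ) (hr : r < chevG2.nroots) (hs : s < chevG2.nroots)
    (hsr : s ≠ r) (hsn : s ≠ chevG2.neg r) (h : ∀ c ∈ chevG2.commTerms r s, c.2.1 % 2 = 0)
    (t u : F) :
    xU chevG2 g2m s u * xU chevG2 g2m r t = xU chevG2 g2m r t * xU chevG2 g2m s u := by
  apply Units.ext
  rw [Units.val_mul, Units.val_mul, coe_xU, coe_xU,
    Cfsg.Agent.Lib.Helper17.cf_of_mem (F := F) chevG2 g2m r s hr hs hsr hsn t u,
    wordMat_commWord_eq_one chevG2 r s t u h, mul_one]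

/-- root elements of `G₂` in characteristic `2` with a single commutator term -/
theorem g2_comm1 [CharP F 2] (r s k : ℕ) (c : ℤ) (hr : r < chevG2.nroots)
    (hs : s < chevG2.nroots) (hsr : s ≠ r) (hsn : s ≠ chevG2.neg r)
    (h : chevG2.commTerms r s = [(k, c, 1, 1)]) (hc : c % 2 = 1) (t u : F) :
    xU chevG2 g2m s u * xU chevG2 g2m r t =
      xU chevG2 g2m r t * xU chevG2 g2m s u * xU chevG2 g2m k (t * u) := by
  apply Units.ext
  rw [Units.val_mul, Units.val_mul, Units.val_mul, coe_xU, coe_xU, coe_xU,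
    Cfsg.Agent.Lib.Helper17.cf_of_mem (F := F) chevG2 g2m r s hr hs hsr hsn t u]
  congr 1
  unfold ChevalleyDatum.commWord ChevalleyDatum.wordMat
  rw [h]
  simp only [List.map_cons, List.map_nil, List.prod_cons, List.prod_nil, mul_one, pow_one]
  have hc1 : ((c : ℤ) : F) = 1 := by
    have h2 : c = 2 * (c / 2) + 1 := by omega
    rw [h2]
    push_cast
    rw [CharTwo.two_eq_zero]
    ring
  rw [hc1, one_mul, CharTwo.neg_eq]

section comm

variable [CharP F 2] (t u : F)

theorem c_9_10 : xU chevG2 g2m 10 u * xU chevG2 g2m 9 t =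
    xU chevG2 g2m 9 t * xU chevG2 g2m 10 u :=
  g2_comm 9 10 (by decide) (by decide) (by decide) (by decide +kernel) (by decide +kernel) t u

theorem c_9_11 : xU chevG2 g2m 11 u * xU chevG2 g2m 9 t =
    xU chevG2 g2m 9 t * xU chevG2 g2m 11 u :=
  g2_comm 9 11 (by decide) (by decide) (by decide) (by decide +kernel) (by decide +kernel) t u

theorem c_9_6 : xU chevG2 g2m 6 u * xU chevG2 g2m 9 t =
    xU chevG2 g2m 9 t * xU chevG2 g2m 6 u :=
  g2_comm 9 6 (by decide) (by decide) (by decide) (by decide +kernel) (by decide +kernel) t u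

theorem c_9_5 : xU chevG2 g2m 5 u * xU chevG2 g2m 9 t =
    xU chevG2 g2m 9 t * xU chevG2 g2m 5 u :=
  g2_comm 9 5 (by decide) (by decide) (by decide) (by decide +kernel) (by decide +kernel) t u

theorem c_10_11 : xU chevG2 g2m 11 u * xU chevG2 g2m 10 t =
    xU chevG2 g2m 10 t * xU chevG2 g2m 11 u :=
  g2_comm 10 11 (by decide) (by decide) (by decide) (by decide +kernel) (by decide +kernel) t u

theorem c_10_7 : xU chevG2 g2m 7 u * xU chevG2 g2m 10 t =
    xU chevG2 g2m 10 t * xU chevG2 g2m 7 u :=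
  g2_comm 10 7 (by decide) (by decide) (by decide) (by decide +kernel) (by decide +kernel) t u

theorem c_10_8 : xU chevG2 g2m 8 u * xU chevG2 g2m 10 t =
    xU chevG2 g2m 10 t * xU chevG2 g2m 8 u :=
  g2_comm 10 8 (by decide) (by decide) (by decide) (by decide +kernel) (by decide +kernel) t u

theorem c_10_5 : xU chevG2 g2m 5 u * xU chevG2 g2m 10 t =
    xU chevG2 g2m 10 t * xU chevG2 g2m 5 u :=
  g2_comm 10 5 (by decide) (by decide) (by decide) (by decide +kernel) (by decide +kernel) t u

theorem c_11_6 : xU chevG2 g2m 6 u * xU chevG2 g2m 11 t =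
    xU chevG2 g2m 11 t * xU chevG2 g2m 6 u :=
  g2_comm 11 6 (by decide) (by decide) (by decide) (by decide +kernel) (by decide +kernel) t u

theorem c_11_7 : xU chevG2 g2m 7 u * xU chevG2 g2m 11 t =
    xU chevG2 g2m 11 t * xU chevG2 g2m 7 u :=
  g2_comm 11 7 (by decide) (by decide) (by decide) (by decide +kernel) (by decide +kernel) t u

theorem c_11_8 : xU chevG2 g2m 8 u * xU chevG2 g2m 11 t =
    xU chevG2 g2m 11 t * xU chevG2 g2m 8 u :=
  g2_comm 11 8 (by decide) (by decide) (by decide) (by decide +kernel) (by decide +kernel) t u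

theorem c_6_8 : xU chevG2 g2m 8 u * xU chevG2 g2m 6 t =
    xU chevG2 g2m 6 t * xU chevG2 g2m 8 u :=
  g2_comm 6 8 (by decide) (by decide) (by decide) (by decide +kernel) (by decide +kernel) t u

theorem c_9_7 : xU chevG2 g2m 7 u * xU chevG2 g2m 9 t =
    xU chevG2 g2m 9 t * xU chevG2 g2m 7 u * xU chevG2 g2m 10 (t * u) :=
  g2_comm1 9 7 10 (-3) (by decide) (by decide) (by decide) (by decide +kernel)
    (by decide +kernel) (by decide) t u

theorem c_9_8 : xU chevG2 g2m 8 u * xU chevG2 g2m 9 t =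
    xU chevG2 g2m 9 t * xU chevG2 g2m 8 u * xU chevG2 g2m 11 (t * u) :=
  g2_comm1 9 8 11 (-3) (by decide) (by decide) (by decide) (by decide +kernel)
    (by decide +kernel) (by decide) t u

theorem c_10_6 : xU chevG2 g2m 6 u * xU chevG2 g2m 10 t =
    xU chevG2 g2m 10 t * xU chevG2 g2m 6 u * xU chevG2 g2m 11 (t * u) :=
  g2_comm1 10 6 11 (-1) (by decide) (by decide) (by decide) (by decide +kernel)
    (by decide +kernel) (by decide) t u

theorem c_self (r : ℕ) : xU chevG2 g2m r u * xU chevG2 g2m r t =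
    xU chevG2 g2m r t * xU chevG2 g2m r u := by
  rw [xU_mul, xU_mul, add_comm]

end comm

end Cfsg.Agent.Lib.Helper36
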